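import Groth.Prelude.Def_W4stkalgebra1Int
import Mathlib.RingTheory.Localization.Integral
import Mathlib.RingTheory.ReesAlgebra
import Mathlib.RingTheory.Polynomial.ScaleRoots
import Mathlib.RingTheory.IntegralClosure.IsIntegralClosure.Basic

/-!
Integrality after localisation and integrality over an ideal via the Rees algebra.
-/

set_option autoImplicit false
universe u

namespace GrothLib.IntegralMisc

open Polynomial

/-- Elements integral over `A_S` in `B_S` are fractions of elements integral over `A`. -/
theorem isIntegral_localization_iff {A B As Bs : Type u} [CommRing A] [CommRing B] [CommRing As] [CommRing Bs]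
    [Algebra A B] [Algebra A As] [Algebra B Bs] [Algebra As Bs] [Algebra A Bs] [IsScalarTower A B Bs]
    [IsScalarTower A As Bs] (S : Submonoid A) [IsLocalization S As]
    [IsLocalization (Algebra.algebraMapSubmonoid B S) Bs] (x : Bs) :
    IsIntegral As x ↔ ∃ b : B, IsIntegral A b ∧ ∃ s ∈ S, x * algebraMap A Bs s = algebraMap B Bs b := by
  constructor
  · intro hx
    obtain ⟨m, hm⟩ := IsIntegral.exists_multiple_integral_of_isLocalization S x hx
    obtain ⟨⟨b, t⟩, hbt⟩ := IsLocalization.surj (Algebra.algebraMapSubmonoid B S) (m • x)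
    obtain ⟨t0, ht0, ht⟩ := t.2
    have hb : IsIntegral A (algebraMap B Bs b) := by
      rw [← hbt]
      refine hm.mul ?_
      rw [← ht, ← IsScalarTower.algebraMap_apply]
      exact isIntegral_algebraMap
    obtain ⟨P, hP, hP0⟩ := hb
    rw [IsScalarTower.algebraMap_eq A B Bs, ← Polynomial.hom_eval₂] at hP0
    obtain ⟨⟨_, u, hu, rfl⟩, hu0⟩ := (IsLocalization.map_eq_zero_iff (Algebra.algebraMapSubmonoid B S) Bs _).1 hP0
    refine ⟨algebraMap A B u * b, ?_, u * (t0 * m), mul_mem hu (mul_mem ht0 m.2), ?_⟩
    · by_cases hd : P.natDegree = 0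
      · have : P = 1 := hP.natDegree_eq_zero.1 hd
        subst this
        simp only [Polynomial.eval₂_one, mul_one] at hu0
        rw [hu0, zero_mul]
        exact isIntegral_zero
      · refine ⟨P.scaleRoots u, (Polynomial.monic_scaleRoots_iff u).2 hP, ?_⟩
        rw [Polynomial.scaleRoots_eval₂_mul]
        obtain ⟨k, hk⟩ := Nat.exists_eq_succ_of_ne_zero hd
        rw [hk, pow_succ, mul_assoc, hu0, mul_zero]
    · rw [map_mul (algebraMap B Bs), ← hbt, ← ht, ← IsScalarTower.algebraMap_apply,
        ← IsScalarTower.algebraMap_apply, Submonoid.smul_def, Algebra.smul_def, map_mul, map_mul]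
      ring
  · rintro ⟨b, hb, s, hs, hxb⟩
    have h1 : IsIntegral As (algebraMap B Bs b) := (hb.map (IsScalarTower.toAlgHom A B Bs)).tower_top
    obtain ⟨w, hw⟩ := (IsLocalization.map_units As (⟨s, hs⟩ : S)).exists_left_inv
    have : x = algebraMap As Bs w * algebraMap B Bs b := by
      have h2 := congrArg (algebraMap As Bs) hw
      rw [map_mul, ← IsScalarTower.algebraMap_apply, map_one] at h2
      calc x = (algebraMap As Bs w * algebraMap A Bs s) * x := by rw [h2, one_mul]
        _ = algebraMap As Bs w * (x * algebraMap A Bs s) := by ring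
        _ = _ := by rw [hxb]
    rw [this]
    exact isIntegral_algebraMap.mul h1

variable {R S : Type u} [CommRing R] [CommRing S] [Algebra R S] (I : Ideal R)

/-- The map from the Rees algebra to `S[X]`. -/
noncomputable def reesHom : reesAlgebra I →+* Polynomial S :=
  (Polynomial.mapRingHom (algebraMap R S)).comp (reesAlgebra I).val.toRingHom

theorem isIntegralOverIdeal_iff (s : S) :
    W4stkalgebra1.IsIntegralOverIdeal I s ↔ (reesHom (S := S) I).IsIntegralElem (C s * X) := by
  constructor
  · rintro ⟨p, hp, hc, h0⟩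
    let d := p.natDegree
    have hm : ∀ j ∈ Finset.range d, monomial (d - j) (p.coeff j) ∈ reesAlgebra I := fun j hj =>
      (reesAlgebra.monomial_mem (I := I)).2 (hc j (Finset.mem_range.1 hj))
    let a : ℕ → reesAlgebra I := fun j =>
      if hj : j ∈ Finset.range d then ⟨_, hm j hj⟩ else 0
    refine ⟨X ^ d + ∑ j : Fin d, C (a j) * X ^ (j : ℕ), monic_X_pow_add (degree_sum_fin_lt _), ?_⟩
    have h1 : eval₂ (algebraMap R S) s p = s ^ d + ∑ j : Fin d, algebraMap R S (p.coeff j) * s ^ (j : ℕ) := by
      conv_lhs => rw [hp.as_sum]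
      simp [d, eval₂_finsetSum, Finset.sum_range]
    rw [h1] at h0
    have h2 : ∀ j : Fin d, reesHom (S := S) I (a j) * (C s * X) ^ (j : ℕ) =
        C (algebraMap R S (p.coeff j) * s ^ (j : ℕ)) * X ^ d := by
      intro j
      have hj : (j : ℕ) ∈ Finset.range d := Finset.mem_range.2 j.2
      have : reesHom (S := S) I (a j) = C (algebraMap R S (p.coeff j)) * X ^ (d - (j : ℕ)) := by
        simp only [a, dif_pos hj]
        show Polynomial.map (algebraMap R S) (monomial (d - (j : ℕ)) (p.coeff j)) = _
        rw [map_monomial, C_mul_X_pow_eq_monomial]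
      rw [this, mul_pow, ← C_pow, mul_mul_mul_comm, ← C_mul, ← pow_add, Nat.sub_add_cancel j.2.le]
    rw [eval₂_add, eval₂_finsetSum, eval₂_X_pow]
    simp only [eval₂_mul, eval₂_C, eval₂_X_pow, h2]
    rw [← Finset.sum_mul, ← map_sum, mul_pow, ← C_pow, ← add_mul, ← C_add, h0, map_zero, zero_mul]
  · rintro ⟨P, hP, hP0⟩
    let d := P.natDegree
    let a : ℕ → R := fun j => ((P.coeff j : reesAlgebra I) : R[X]).coeff (d - j)
    refine ⟨X ^ d + ∑ j : Fin d, C (a j) * X ^ (j : ℕ), monic_X_pow_add (degree_sum_fin_lt _), ?_, ?_⟩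
    · intro j hj
      by_cases hR : Nontrivial R
      · have hdeg : (X ^ d + ∑ j : Fin d, C (a j) * X ^ (j : ℕ)).natDegree = d := by
          apply natDegree_eq_of_degree_eq_some
          rw [degree_add_eq_left_of_degree_lt (by rw [degree_X_pow]; exact degree_sum_fin_lt _), degree_X_pow]
        rw [hdeg] at hj ⊢
        rw [coeff_add, coeff_X_pow, if_neg hj.ne, zero_add, finset_sum_coeff,
          Finset.sum_eq_single ⟨j, hj⟩]
        · simpa using (P.coeff j).2 (d - j)
        · intro k _ hk
          rw [coeff_C_mul_X_pow, if_neg (fun h => hk (Fin.ext h.symm))]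
        · simp
      · rw [not_nontrivial_iff_subsingleton] at hR
        rw [Subsingleton.elim ((X ^ d + ∑ j : Fin d, C (a j) * X ^ (j : ℕ)).coeff j) 0]
        exact zero_mem _
    · have h3 := congrArg (fun q : S[X] => q.coeff d) hP0
      simp only [coeff_zero] at h3
      rw [hP.as_sum] at h3
      simp only [eval₂_add, eval₂_finsetSum, eval₂_X_pow, eval₂_mul, eval₂_C, coeff_add, finset_sum_coeff,
        mul_pow, ← C_pow, coeff_C_mul_X_pow, if_true] at h3
      rw [← h3]
      simp only [eval₂_add, eval₂_finsetSum, eval₂_X_pow, eval₂_mul, eval₂_C, if_pos rfl, d, Finset.sum_range]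
      refine congrArg₂ (· + ·) (by simp) (Finset.sum_congr rfl fun j _ => ?_)
      rw [← mul_assoc, coeff_mul_X_pow', if_pos j.2.le, coeff_mul_C]
      show algebraMap R S (a j) * _ = (Polynomial.map (algebraMap R S) _).coeff _ * _
      rw [coeff_map]
      rfl

theorem isIntegralOverIdeal_submodule_and_mul :
    (∃ N : Submodule R S, ∀ s : S, s ∈ N ↔ W4stkalgebra1.IsIntegralOverIdeal I s) ∧
      (∀ s s' : S, IsIntegral R s → W4stkalgebra1.IsIntegralOverIdeal I s' →
        W4stkalgebra1.IsIntegralOverIdeal I (s * s')) := by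
  have hC : ∀ r : R, (reesHom (S := S) I).IsIntegralElem (C (algebraMap R S r)) := fun r => by
    have : C (algebraMap R S r) = reesHom (S := S) I (algebraMap R (reesAlgebra I) r) := by
      simp [reesHom]
    rw [this]
    exact (reesHom (S := S) I).isIntegralElem_map
  refine ⟨⟨
    { carrier := {s | W4stkalgebra1.IsIntegralOverIdeal I s}
      zero_mem' := by
        rw [Set.mem_setOf_eq, isIntegralOverIdeal_iff, map_zero, zero_mul]
        exact (reesHom (S := S) I).isIntegralElem_zero
      add_mem' := fun {a b} ha hb => by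
        rw [Set.mem_setOf_eq, isIntegralOverIdeal_iff] at *
        rw [map_add, add_mul]
        exact ha.add _ hb
      smul_mem' := fun r a ha => by
        rw [Set.mem_setOf_eq, isIntegralOverIdeal_iff] at *
        rw [Algebra.smul_def, C_mul, mul_assoc]
        exact (hC r).mul _ ha }, fun s => Iff.rfl⟩, ?_⟩
  intro s s' hs hs'
  rw [isIntegralOverIdeal_iff] at *
  rw [C_mul, mul_assoc]
  refine RingHom.IsIntegralElem.mul _ ?_ hs'
  obtain ⟨p, hp, hp0⟩ := hs
  refine ⟨p.map (algebraMap R (reesAlgebra I)), hp.map _, ?_⟩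
  rw [eval₂_map, show (reesHom (S := S) I).comp (algebraMap R (reesAlgebra I)) = C.comp (algebraMap R S) from
    RingHom.ext fun r => by simp [reesHom], ← hom_eval₂, hp0, map_zero]

end GrothLib.IntegralMisc
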